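import Cfsg.Agent.H662.HT.Frame

/-!
# S3540, S3577 (TEAM HT-E), C1: frames of five anticommuting involutions in dimension four (helper528)

* `card_fx_anti` : `n` anticommutes with the involution `y`: `|C_M(y)| ^ 2 = |M|`;
* `scalar_of_comm` : the linear maps commuting with a frame are scalar.
-/

set_option autoImplicit false

namespace Cfsg.Agent.H528.HT

open Cfsg.Agent.H828.HT Cfsg.Agent.H662.HT

universe u

section anti

variable {p : ℕ} [Fact p.Prime] {M : Type u} [AddCommGroup M] [Module (ZMod p) M]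

theorem two_ne (hp : 3 ≤ p) : (2 : ZMod p) ≠ 0 := by
  intro h
  have h1 : ((2 : ℕ) : ZMod p) = 0 := by exact_mod_cast h
  rw [ZMod.natCast_eq_zero_iff] at h1
  have := Nat.le_of_dvd two_pos h1
  omega

theorem eq_of_add_self (hp : 3 ≤ p) {a b : M} (h : a + a = b + b) : a = b := by
  have h2 := two_ne hp
  rw [← two_smul (ZMod p), ← two_smul (ZMod p) b] at h
  exact smul_right_injective M h2 h

/-- `y ^ 2 = 1` on `F`, `n` invertible on `F` and anticommuting with `y` -/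
structure Anti (F : Submodule (ZMod p) M) (y n m : M → M) : Prop where
  yF : ∀ v ∈ F, y v ∈ F
  nF : ∀ v ∈ F, n v ∈ F
  mF : ∀ v ∈ F, m v ∈ F
  yy : ∀ v ∈ F, y (y v) = v
  ny : ∀ v ∈ F, n (y v) = -(y (n v))
  nm : ∀ v ∈ F, n (m v) = v
  mn : ∀ v ∈ F, m (n v) = v

/-- the decomposition -/
theorem Anti.exists_decomp (hp : 3 ≤ p) {F : Submodule (ZMod p) M} {y n m : M →ₗ[ZMod p] M} (h : Anti F y n m)
    {f : M} (hf : f ∈ F) : ∃ a ∈ F, ∃ b ∈ F, y a = a ∧ y b = b ∧ f = a + n b := by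
  have h2 := two_ne hp
  set c : ZMod p := (2 : ZMod p)⁻¹ with hc
  have hcc : c + c = 1 := by rw [← two_mul, hc, mul_inv_cancel₀ h2]
  set a := c • (f + y f) with ha
  set d := c • (f - y f) with hd
  have haF : a ∈ F := F.smul_mem _ (F.add_mem hf (h.yF f hf))
  have hdF : d ∈ F := F.smul_mem _ (F.sub_mem hf (h.yF f hf))
  have hya : y a = a := by
    rw [ha, map_smul, map_add, h.yy f hf, add_comm (y f) f]
  have hyd : y d = -d := by
    rw [hd, map_smul, map_sub, h.yy f hf, ← smul_neg, neg_sub]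
  have hb := h.mF d hdF
  refine ⟨a, haF, m d, hb, hya, ?_, ?_⟩
  · have h1 := h.ny _ hb
    rw [h.nm d hdF, hyd, neg_neg] at h1
    rw [← h.mn _ (h.yF _ hb), h1]
  · rw [h.nm d hdF, ha, hd, ← smul_add, add_add_sub_cancel, smul_add, ← add_smul, hcc, one_smul]

/-- the fixed points of `y` on `F` -/
def fixF (F : Submodule (ZMod p) M) (y : M →ₗ[ZMod p] M) : Submodule (ZMod p) M :=
  F ⊓ LinearMap.ker (y - LinearMap.id)

theorem mem_fixF {F : Submodule (ZMod p) M} {y : M →ₗ[ZMod p] M} {v : M} : v ∈ fixF F y ↔ v ∈ F ∧ y v = v := by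
  rw [fixF, Submodule.mem_inf, LinearMap.mem_ker, LinearMap.sub_apply, LinearMap.id_apply, sub_eq_zero]

/-- the cardinality -/
theorem Anti.card (hp : 3 ≤ p) {F : Submodule (ZMod p) M} {y n m : M →ₗ[ZMod p] M} (h : Anti F y n m) :
    Nat.card (fixF F y) ^ 2 = Nat.card F := by
  rw [pow_two, ← Nat.card_prod]
  refine Nat.card_congr (Equiv.ofBijective
    (fun e : fixF F y × fixF F y => (⟨(e.1 : M) + n (e.2 : M), F.add_mem (mem_fixF.1 e.1.2).1
      (h.nF _ (mem_fixF.1 e.2.2).1)⟩ : F)) ⟨?_, ?_⟩)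
  · rintro ⟨⟨a, ha⟩, ⟨b, hb⟩⟩ ⟨⟨a', ha'⟩, ⟨b', hb'⟩⟩ he
    rw [mem_fixF] at ha hb ha' hb'
    have h1 : a + n b = a' + n b' := congrArg Subtype.val he
    have h2 := congrArg y h1
    have h3 : ∀ c ∈ F, y c = c → y (n c) = -(n c) := by
      intro c hc hyc
      have h7 := h.ny c hc
      rw [hyc] at h7
      have h8 := congrArg Neg.neg h7
      rw [neg_neg] at h8
      exact h8.symm
    rw [map_add, map_add, ha.2, ha'.2, h3 b hb.1 hb.2, h3 b' hb'.1 hb'.2] at h2
    have h4 : a = a' := by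
      apply eq_of_add_self hp
      have h5 : a + n b + (a + -(n b)) = a' + n b' + (a' + -(n b')) := by rw [h1, h2]
      have e1 : ∀ x z : M, x + z + (x + -z) = x + x := fun x z => by abel
      rwa [e1, e1] at h5
    have h5 : n b = n b' := by
      rw [h4] at h1
      exact add_left_cancel h1
    have h6 : b = b' := by rw [← h.mn b hb.1, ← h.mn b' hb'.1, h5]
    subst h4 h6
    rfl
  · rintro ⟨f, hf⟩
    obtain ⟨a, ha, b, hb, hya, hyb, he⟩ := h.exists_decomp hp hf
    exact ⟨⟨⟨a, mem_fixF.2 ⟨ha, hya⟩⟩, ⟨b, mem_fixF.2 ⟨hb, hyb⟩⟩⟩, Subtype.ext he.symm⟩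

/-- C1: `n` swaps the eigenspaces of `y` -/
theorem card_fx_anti (hp : 3 ≤ p) {y n : M ≃ₗ[ZMod p] M} (hy : y * y = 1) (hn : ∀ v : M, n (y v) = -(y (n v))) :
    Nat.card (fx y) ^ 2 = Nat.card M := by
  have h : Anti (p := p) (⊤ : Submodule (ZMod p) M) (y : M →ₗ[ZMod p] M) (n : M →ₗ[ZMod p] M)
      (n.symm : M →ₗ[ZMod p] M) :=
    ⟨fun _ _ => trivial, fun _ _ => trivial, fun _ _ => trivial, fun v _ => congrArg (fun f : M ≃ₗ[ZMod p] M => f v) hy,
      fun v _ => hn v, fun v _ => n.apply_symm_apply v, fun v _ => n.symm_apply_apply v⟩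
  have h1 := h.card hp
  have h2 : fixF (⊤ : Submodule (ZMod p) M) (y : M →ₗ[ZMod p] M) = fx y := by
    ext v
    rw [mem_fixF, mem_fx]
    exact ⟨fun h => h.2, fun h => ⟨trivial, h⟩⟩
  rw [h2] at h1
  rw [h1]
  exact Nat.card_congr Submodule.topEquiv.toEquiv

end anti

section frame

variable {p : ℕ} [Fact p.Prime] {M : Type u} [AddCommGroup M] [Module (ZMod p) M]

/-- anticommuting, pointwise -/
theorem Frame5.anti' {t : Fin 5 → (M ≃ₗ[ZMod p] M)} (ht : Frame5 t) {j k : Fin 5} (h : j ≠ k) (v : M) :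
    t j (t k v) = -(t k (t j v)) := ht.anti j k h v

theorem Frame5.sq' {t : Fin 5 → (M ≃ₗ[ZMod p] M)} (ht : Frame5 t) (k : Fin 5) (v : M) : t k (t k v) = v :=
  congrArg (fun f : M ≃ₗ[ZMod p] M => f v) (ht.sq k)

/-- C1: the maps commuting with a frame are scalar -/
theorem scalar_of_comm [Finite M] (hp : 3 ≤ p) {t : Fin 5 → (M ≃ₗ[ZMod p] M)} (ht : Frame5 t)
    (hM : Nat.card M = p ^ 4) (x : M ≃ₗ[ZMod p] M) (hx : ∀ k, ∀ v : M, x (t k v) = t k (x v)) :
    ∃ c : ZMod p, ∀ v : M, x v = c • v := by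
  obtain ⟨a, b, hab⟩ := ZMod.sq_add_sq p (-1)
  have s := fun k v => Frame5.sq' ht k v
  have e10 := fun v => Frame5.anti' ht (show (1 : Fin 5) ≠ 0 by decide) v
  have e20 := fun v => Frame5.anti' ht (show (2 : Fin 5) ≠ 0 by decide) v
  have e30 := fun v => Frame5.anti' ht (show (3 : Fin 5) ≠ 0 by decide) v
  have e21 := fun v => Frame5.anti' ht (show (2 : Fin 5) ≠ 1 by decide) v
  have e31 := fun v => Frame5.anti' ht (show (3 : Fin 5) ≠ 1 by decide) v
  have e32 := fun v => Frame5.anti' ht (show (3 : Fin 5) ≠ 2 by decide) v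
  -- the first decomposition
  have hA : Anti (p := p) (⊤ : Submodule (ZMod p) M) (t 0 : M →ₗ[ZMod p] M) (t 1 : M →ₗ[ZMod p] M)
      (t 1 : M →ₗ[ZMod p] M) :=
    ⟨fun _ _ => trivial, fun _ _ => trivial, fun _ _ => trivial, fun v _ => s 0 v, fun v _ => e10 v,
      fun v _ => s 1 v, fun v _ => s 1 v⟩
  set F := fixF (⊤ : Submodule (ZMod p) M) (t 0 : M →ₗ[ZMod p] M) with hF
  have hmF : ∀ v, v ∈ F ↔ t 0 v = v := fun v => by
    rw [hF, mem_fixF]
    exact ⟨fun h => h.2, fun h => ⟨trivial, h⟩⟩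
  have hFc : Nat.card F = p ^ 2 := by
    have h1 := hA.card hp
    rw [Nat.card_congr (Submodule.topEquiv (R := ZMod p) (M := M)).toEquiv, hM] at h1
    have h2 : Nat.card F ^ 2 = (p ^ 2) ^ 2 := by rw [h1, ← pow_mul]
    exact Nat.pow_left_injective (n := 2) (by norm_num) h2
  -- `j = t 1 t 2`, `k = t 1 t 3`, `y = a j + b k`, `n = t 2 t 3`
  set J : M →ₗ[ZMod p] M := (t 1 : M →ₗ[ZMod p] M) ∘ₗ (t 2 : M →ₗ[ZMod p] M) with hJ
  set Q : M →ₗ[ZMod p] M := (t 1 : M →ₗ[ZMod p] M) ∘ₗ (t 3 : M →ₗ[ZMod p] M) with hQ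
  set N : M →ₗ[ZMod p] M := (t 2 : M →ₗ[ZMod p] M) ∘ₗ (t 3 : M →ₗ[ZMod p] M) with hN
  set Y : M →ₗ[ZMod p] M := a • J + b • Q with hY
  have jv : ∀ v, J v = t 1 (t 2 v) := fun v => rfl
  have qv : ∀ v, Q v = t 1 (t 3 v) := fun v => rfl
  have nv : ∀ v, N v = t 2 (t 3 v) := fun v => rfl
  have yv : ∀ v, Y v = a • J v + b • Q v := fun v => rfl
  have jj : ∀ v, J (J v) = -v := fun v => by rw [jv, jv, e21, map_neg, s, s]
  have qq : ∀ v, Q (Q v) = -v := fun v => by rw [qv, qv, e31, map_neg, s, s]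
  have jq : ∀ v, J (Q v) = -(N v) := fun v => by rw [jv, qv, e21, map_neg, s, nv]
  have qj : ∀ v, Q (J v) = N v := fun v => by rw [jv, qv, e31, map_neg, s, e32, neg_neg, nv]
  have nn : ∀ v, N (N v) = -v := fun v => by rw [nv, nv, e32, map_neg, s, s]
  have nj : ∀ v, N (J v) = -(J (N v)) := fun v => by
    have h1 := jq v
    have h2 := qj v
    rw [← h2, jq, neg_neg]
  have nq : ∀ v, N (Q v) = -(Q (N v)) := fun v => by
    have h2 := jq v
    have h3 : N v = -(J (Q v)) := by rw [h2, neg_neg]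
    rw [h3, map_neg, neg_neg, qj]
  have ny : ∀ v, N (Y v) = -(Y (N v)) := fun v => by
    rw [yv, yv, map_add, map_smul, map_smul, nj, nq]
    module
  have yy : ∀ v, Y (Y v) = v := fun v => by
    rw [yv, yv, map_add, map_smul, map_smul, map_add, map_smul, map_smul, jj, qq, jq, qj]
    have h1 : a • (a • -v + b • -(N v)) + b • (a • N v + b • -v) = -((a ^ 2 + b ^ 2) • v) := by module
    rw [h1, hab]
    module
  have jF : ∀ v ∈ F, J v ∈ F := fun v hv => by
    rw [hmF] at hv ⊢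
    have h1 := e10 (t 2 v)
    have h2 := e20 v
    rw [hv] at h2
    have h3 : t 0 (t 2 v) = -(t 2 v) := by
      have := congrArg Neg.neg h2
      rw [neg_neg] at this
      exact this.symm
    rw [h3, map_neg] at h1
    rw [jv]
    exact (neg_injective h1).symm
  have qF : ∀ v ∈ F, Q v ∈ F := fun v hv => by
    rw [hmF] at hv ⊢
    have h1 := e10 (t 3 v)
    have h2 := e30 v
    rw [hv] at h2
    have h3 : t 0 (t 3 v) = -(t 3 v) := by
      have := congrArg Neg.neg h2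
      rw [neg_neg] at this
      exact this.symm
    rw [h3, map_neg] at h1
    rw [qv]
    exact (neg_injective h1).symm
  have nF : ∀ v ∈ F, N v ∈ F := fun v hv => by
    rw [← qj]
    exact qF _ (jF v hv)
  -- the second decomposition
  set N' : M →ₗ[ZMod p] M := -N with hN'
  have nv' : ∀ v, N' v = -(N v) := fun v => rfl
  have hB : Anti (p := p) F Y N N' :=
    ⟨fun v hv => by
        rw [yv]
        exact F.add_mem (F.smul_mem _ (jF v hv)) (F.smul_mem _ (qF v hv)),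
      nF, fun v hv => by
        rw [nv']
        exact F.neg_mem (nF v hv), fun v _ => yy v, fun v _ => ny v,
      fun v _ => by rw [nv', map_neg, nn, neg_neg],
      fun v _ => by rw [nv', nn, neg_neg]⟩
  set U := fixF F Y with hU
  have hUc : Nat.card U = p := by
    have h1 := hB.card hp
    rw [hFc] at h1
    exact Nat.pow_left_injective (n := 2) (by norm_num) h1
  -- `x` commutes with everything
  have xj : ∀ v, x (J v) = J (x v) := fun v => by rw [jv, jv, hx, hx]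
  have xq : ∀ v, x (Q v) = Q (x v) := fun v => by rw [qv, qv, hx, hx]
  have xn : ∀ v, x (N v) = N (x v) := fun v => by rw [nv, nv, hx, hx]
  have xy : ∀ v, x (Y v) = Y (x v) := fun v => by rw [yv, yv, map_add, map_smul, map_smul, xj, xq]
  have xF : ∀ v ∈ F, x v ∈ F := fun v hv => by
    rw [hmF] at hv ⊢
    rw [← hx, hv]
  have xU : ∀ v ∈ U, x v ∈ U := fun v hv => by
    rw [hU, mem_fixF] at hv ⊢
    exact ⟨xF v hv.1, by rw [← xy, hv.2]⟩
  -- a generator of the line `U`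
  have hp1 : 1 < Nat.card U := by omega
  have : Nontrivial U := (Finite.one_lt_card_iff_nontrivial).1 hp1
  obtain ⟨⟨w, hwU⟩, hw0⟩ := exists_ne (0 : U)
  have hw : w ≠ 0 := fun h => hw0 (Subtype.ext h)
  have hsp : (ZMod p) ∙ w = U := by
    have hle : (ZMod p) ∙ w ≤ U := (Submodule.span_singleton_le_iff_mem w U).2 hwU
    have hc : Nat.card ((ZMod p) ∙ w) = p := by
      have h1 : Nat.card ((ZMod p) ∙ w) = Nat.card (ZMod p) :=
        Nat.card_congr (LinearEquiv.toSpanNonzeroSingleton (ZMod p) M w hw).toEquiv.symm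
      rw [h1, Nat.card_zmod]
    apply SetLike.coe_injective
    apply Set.eq_of_subset_of_ncard_le (s := ((ZMod p ∙ w : Submodule (ZMod p) M) : Set M)) (t := (U : Set M)) hle
    rw [← Nat.card_coe_set_eq, ← Nat.card_coe_set_eq]
    exact (hUc.trans hc.symm).le
  have hline : ∀ v ∈ U, ∃ c : ZMod p, c • w = v := fun v hv => by
    rw [← hsp] at hv
    exact Submodule.mem_span_singleton.1 hv
  obtain ⟨c, hc⟩ := hline _ (xU w hwU)
  refine ⟨c, fun v => ?_⟩
  have sU : ∀ v ∈ U, x v = c • v := fun v hv => by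
    obtain ⟨d, rfl⟩ := hline v hv
    rw [map_smul, ← hc, smul_comm]
  have sF : ∀ v ∈ F, x v = c • v := fun v hv => by
    obtain ⟨a', ha, b', hb, hya, hyb, he⟩ := hB.exists_decomp hp hv
    rw [he, map_add, xn, sU a' (mem_fixF.2 ⟨ha, hya⟩), sU b' (mem_fixF.2 ⟨hb, hyb⟩), map_smul, smul_add]
  obtain ⟨a', ha, b', hb, hya, hyb, he⟩ := hA.exists_decomp hp (show v ∈ (⊤ : Submodule (ZMod p) M) from trivial)
  have ha' : a' ∈ F := (hmF a').2 hya
  have hb' : b' ∈ F := (hmF b').2 hyb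
  have he' : v = a' + t 1 b' := he
  rw [he', map_add, hx, sF a' ha', sF b' hb', map_smul, smul_add]

end frame

end Cfsg.Agent.H528.HT
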