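import Mathlib

/-!
# Semilinear maps of prime order over finite fields (S3577, S3540, TEAM HT-E, P3; helper528)

* `card_fix_semi` : `|C_W(g)| ^ r ≤ |W|` for a semilinear map `g ∉ GL(W)` with `g ^ r = 1`, `r` a prime;
* `card_norm_semi` : `|K| = q₀ ^ r` and at most `(q₀ ^ r - 1) / (q₀ - 1)` scalars `k` have `(k g) ^ r = 1`.
-/

set_option autoImplicit false

namespace Cfsg.Agent.H528.HT

universe u

section semi

variable {K : Type*} [Field K]

theorem pow_apply_fix {σ : K ≃+* K} {θ : K} (h : σ θ = θ) (n : ℕ) : (σ ^ n) θ = θ := by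
  induction n with
  | zero => rfl
  | succ n ih => rw [pow_succ, RingAut.mul_apply, h, ih]

/-- the images of `θ` are distinct -/
theorem pow_inj {σ : K ≃+* K} {r : ℕ} (hr : r.Prime) (hσr : σ ^ r = 1) {θ : K} (hθ : σ θ ≠ θ) {i j : ℕ} (hi : i < r)
    (hj : j < r) (h : (σ ^ i) θ = (σ ^ j) θ) : i = j := by
  wlog hij : i ≤ j generalizing i j
  · exact (this hj hi h.symm (by omega)).symm
  by_contra hne
  obtain ⟨d, rfl⟩ := Nat.exists_eq_add_of_le hij
  have hd0 : d ≠ 0 := fun h0 => hne (by rw [h0, add_zero])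
  have h1 : (σ ^ d) θ = θ := by
    rw [pow_add, RingAut.mul_apply] at h
    exact ((σ ^ i).injective h).symm
  have hc : d.Coprime r := by
    rw [Nat.coprime_comm, hr.coprime_iff_not_dvd]
    intro h2
    have := Nat.le_of_dvd (by omega) h2
    omega
  obtain ⟨m, hm⟩ := exists_pow_eq_self_of_coprime (x := σ) (n := d)
    (Nat.Coprime.coprime_dvd_right (orderOf_dvd_of_pow_eq_one hσr) hc)
  apply hθ
  rw [← hm]
  exact pow_apply_fix h1 m

/-- iterates of a semilinear map -/
theorem iter_smul {W : Type*} [AddCommGroup W] [Module K W] (σ : K ≃+* K) (g : W ≃+ W)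
    (hg : ∀ (k : K) (w : W), g (k • w) = σ k • g w) (n : ℕ) (k : K) (w : W) :
    (fun w : W => g w)^[n] (k • w) = (σ ^ n) k • (fun w : W => g w)^[n] w := by
  induction n generalizing k w with
  | zero => rfl
  | succ n ih =>
    rw [Function.iterate_succ_apply, Function.iterate_succ_apply, hg, ih, pow_succ, RingAut.mul_apply]

theorem sigma_pow {W : Type*} [AddCommGroup W] [Nontrivial W] [Module K W] (σ : K ≃+* K) {r : ℕ} (g : W ≃+ W)
    (hg : ∀ (k : K) (w : W), g (k • w) = σ k • g w) (hgr : ∀ w : W, (fun w : W => g w)^[r] w = w) : σ ^ r = 1 := by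
  obtain ⟨w, hw⟩ := exists_ne (0 : W)
  ext k
  have h := iter_smul σ g hg r k w
  rw [hgr, hgr] at h
  exact (smul_left_injective K hw h).symm

/-- the product `k σ(k) ⋯ σ^(n-1)(k)` -/
def nrm (σ : K ≃+* K) (n : ℕ) (k : K) : K := ∏ j ∈ Finset.range n, (σ ^ j) k

theorem iter_mul {W : Type*} [AddCommGroup W] [Module K W] (σ : K ≃+* K) (g : W ≃+ W)
    (hg : ∀ (k : K) (w : W), g (k • w) = σ k • g w) (n : ℕ) (k : K) (w : W) :
    (fun w : W => k • g w)^[n] w = nrm σ n k • (fun w : W => g w)^[n] w := by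
  induction n with
  | zero => simp [nrm]
  | succ n ih =>
    rw [Function.iterate_succ_apply', Function.iterate_succ_apply', ih]
    show k • g (nrm σ n k • (fun w : W => g w)^[n] w) = nrm σ (n + 1) k • g ((fun w : W => g w)^[n] w)
    rw [hg, smul_smul]
    congr 1
    rw [nrm, nrm, Finset.prod_range_succ', map_prod, mul_comm]
    simp only [pow_succ', RingAut.mul_apply, pow_zero]
    rfl

/-- **P3**: fixed points of a semilinear map of prime order -/
theorem card_fix_semi' {K W : Type*} [Field K] [AddCommGroup W] [Finite W] [Module K W]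
    (σ : K ≃+* K) (hσ : σ ≠ 1) {r : ℕ} (hr : r.Prime) (g : W ≃+ W) (hg : ∀ (k : K) (w : W), g (k • w) = σ k • g w)
    (hgr : ∀ w : W, (fun w : W => g w)^[r] w = w) : Nat.card {w : W // g w = w} ^ r ≤ Nat.card W := by
  rcases subsingleton_or_nontrivial W with hW | hW
  · have h1 : Nat.card {w : W // g w = w} ≤ 1 := by
      have : Subsingleton {w : W // g w = w} := inferInstance
      exact Finite.card_le_one_iff_subsingleton.2 this
    calc Nat.card {w : W // g w = w} ^ r ≤ 1 ^ r := Nat.pow_le_pow_left h1 r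
      _ = 1 := one_pow r
      _ ≤ Nat.card W := Nat.card_pos
  have hσr := sigma_pow σ g hg hgr
  obtain ⟨θ, hθ⟩ : ∃ θ : K, σ θ ≠ θ := by
    by_contra hcon
    push Not at hcon
    exact hσ (RingEquiv.ext hcon)
  have hcard : Nat.card (Fin r → {w : W // g w = w}) = Nat.card {w : W // g w = w} ^ r := by
    rw [Nat.card_fun, Nat.card_fin]
  rw [← hcard]
  refine Nat.card_le_card_of_injective (fun f : Fin r → {w : W // g w = w} => ∑ i : Fin r, θ ^ (i : ℕ) • (f i : W)) ?_
  intro f f' hff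
  -- the differences
  set d : Fin r → W := fun i => (f i : W) - (f' i : W) with hd
  have hfix : ∀ (n : ℕ) (w : W), g w = w → (fun w : W => g w)^[n] w = w := by
    intro n w hw
    exact Function.iterate_fixed hw n
  have hdfix : ∀ i, g (d i) = d i := fun i => by
    show g ((f i : W) - (f' i : W)) = (f i : W) - (f' i : W)
    rw [map_sub, (f i).2, (f' i).2]
  have h0 : ∑ i : Fin r, θ ^ (i : ℕ) • d i = 0 := by
    have h1 : ∑ i : Fin r, θ ^ (i : ℕ) • (f i : W) = ∑ i : Fin r, θ ^ (i : ℕ) • (f' i : W) := hff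
    simp only [hd, smul_sub, Finset.sum_sub_distrib, h1, sub_self]
  have hiter0 : ∀ n : ℕ, (fun w : W => g w)^[n] (∑ i : Fin r, θ ^ (i : ℕ) • d i) =
      ∑ i : Fin r, ((σ ^ n) θ) ^ (i : ℕ) • d i := by
    intro n
    induction n with
    | zero => rfl
    | succ n ih =>
      rw [Function.iterate_succ_apply', ih]
      show g (∑ i : Fin r, ((σ ^ n) θ) ^ (i : ℕ) • d i) = _
      rw [map_sum]
      refine Finset.sum_congr rfl fun i _ => ?_
      rw [hg, hdfix, map_pow, pow_succ' σ, RingAut.mul_apply]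
  have h2 : ∀ j : Fin r, ∑ i : Fin r, ((σ ^ (j : ℕ)) θ) ^ (i : ℕ) • d i = 0 := by
    intro j
    rw [← hiter0 j, h0]
    exact hfix _ _ (map_zero g)
  have hinj : Function.Injective (fun j : Fin r => (σ ^ (j : ℕ)) θ) := fun i j hij =>
    Fin.ext (pow_inj hr hσr hθ i.2 j.2 hij)
  have h3 : ∀ i, d i = 0 := by
    intro i
    rw [← Module.forall_dual_apply_eq_zero_iff K]
    intro φ
    have h4 : (fun i => φ (d i)) = 0 := by
      refine Matrix.eq_zero_of_forall_index_sum_pow_mul_eq_zero hinj fun j => ?_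
      have h5 := congrArg φ (h2 j)
      rw [map_sum, map_zero] at h5
      rw [← h5]
      exact Finset.sum_congr rfl fun i _ => by rw [map_smul, smul_eq_mul]
    exact congrFun h4 i
  funext i
  exact Subtype.ext (sub_eq_zero.1 (h3 i))

/-- the fixed field -/
abbrev fxF (σ : K ≃+* K) : Subfield K := FixedPoints.subfield (Subgroup.zpowers σ) K

theorem norm_eq [Finite K] {σ : K ≃+* K} {r : ℕ} (ho : orderOf σ = r) (k : K) :
    ((Algebra.norm (fxF σ) k : fxF σ) : K) = nrm σ r k := by
  have hfin : Finite (Subgroup.zpowers σ) := by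
    have : Finite (K ≃+* K) := Finite.of_injective (fun f : K ≃+* K => (f : K → K)) DFunLike.coe_injective
    infer_instance
  have h1 := Algebra.norm_eq_prod_automorphisms (K := fxF σ) k
  have h2 : algebraMap (fxF σ) K (Algebra.norm (fxF σ) k) = nrm σ r k := by
    rw [h1]
    have := Fintype.ofFinite (Subgroup.zpowers σ)
    have h3 : ∏ τ : K ≃ₐ[fxF σ] K, τ k = ∏ g : Subgroup.zpowers σ, (g : K ≃+* K) k := by
      symm
      exact Fintype.prod_equiv (FixedPoints.toAlgAutMulEquiv (Subgroup.zpowers σ) K).toEquiv _ _ fun g => rfl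
    rw [h3, nrm, Finset.prod_range, ← ho]
    have hof : IsOfFinOrder σ := by
      have : Finite (K ≃+* K) := Finite.of_injective (fun f : K ≃+* K => (f : K → K)) DFunLike.coe_injective
      exact isOfFinOrder_of_finite σ
    symm
    refine Fintype.prod_equiv (finEquivZPowers hof) _ _ fun n => ?_
    rw [finEquivZPowers_apply]
  exact h2

/-- **P3**: the number of scalars `k` with `(k g) ^ r = 1` -/
theorem card_norm_semi' {K W : Type*} [Field K] [Finite K] [AddCommGroup W] [Nontrivial W] [Module K W]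
    (σ : K ≃+* K) (hσ : σ ≠ 1) {r : ℕ} (hr : r.Prime) (g : W ≃+ W) (hg : ∀ (k : K) (w : W), g (k • w) = σ k • g w)
    (hgr : ∀ w : W, (fun w : W => g w)^[r] w = w) : ∃ q₀ : ℕ, 2 ≤ q₀ ∧ Nat.card K = q₀ ^ r ∧
      (q₀ - 1) * Nat.card {k : Kˣ // ∀ w : W, ((fun w : W => (k : K) • g w)^[r]) w = w} ≤ q₀ ^ r - 1 := by
  have hσr := sigma_pow σ g hg hgr
  have ho : orderOf σ = r := by
    have := Fact.mk hr
    exact orderOf_eq_prime hσr hσ
  have hfinA : Finite (K ≃+* K) := Finite.of_injective (fun f : K ≃+* K => (f : K → K)) DFunLike.coe_injective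
  have hft := Fintype.ofFinite (Subgroup.zpowers σ)
  have hrank : Module.finrank (fxF σ) K = r := by
    rw [FixedPoints.finrank_eq_card (Subgroup.zpowers σ) K, Fintype.card_eq_nat_card, Nat.card_zpowers, ho]
  have hcK : Nat.card K = Nat.card (fxF σ) ^ r := by
    rw [Module.natCard_eq_pow_finrank (K := fxF σ), hrank]
  refine ⟨Nat.card (fxF σ), Finite.one_lt_card, hcK, ?_⟩
  have h1 : Nat.card {k : Kˣ // ∀ w : W, ((fun w : W => (k : K) • g w)^[r]) w = w} =
      Nat.card (Units.map (Algebra.norm (fxF σ) (S := K))).ker := by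
    refine Nat.card_congr (Equiv.subtypeEquivRight fun k => ?_)
    rw [MonoidHom.mem_ker, Units.ext_iff, Units.coe_map, Units.val_one, Subtype.ext_iff]
    show _ ↔ ((Algebra.norm (fxF σ) (k : K) : fxF σ) : K) = 1
    rw [norm_eq ho]
    constructor
    · intro h
      obtain ⟨w, hw⟩ := exists_ne (0 : W)
      have h2 := h w
      rw [iter_mul σ g hg, hgr] at h2
      have h3 : nrm σ r (k : K) • w = (1 : K) • w := by rw [h2, one_smul]
      exact smul_left_injective K hw h3
    · intro h w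
      rw [iter_mul σ g hg, hgr, h, one_smul]
  have h2 : Nat.card Kˣ = Nat.card (Units.map (Algebra.norm (fxF σ) (S := K))).ker * Nat.card (fxF σ)ˣ := by
    rw [← Subgroup.card_mul_index (Units.map (Algebra.norm (fxF σ) (S := K))).ker, Subgroup.index_ker,
      MonoidHom.range_eq_top.2 (FiniteField.unitsMap_norm_surjective (fxF σ) K), Subgroup.card_top]
  rw [Nat.card_units, Nat.card_units, hcK] at h2
  rw [h1, h2, mul_comm]

end semi

/-- P3: fixed points of a semilinear map of prime order -/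
theorem card_fix_semi {K W : Type u} [Field K] [Finite K] [AddCommGroup W] [Finite W] [Module K W]
    (σ : K ≃+* K) (hσ : σ ≠ 1) {r : ℕ} (hr : r.Prime) (g : W ≃+ W) (hg : ∀ (k : K) (w : W), g (k • w) = σ k • g w)
    (hgr : ∀ w : W, (fun w : W => g w)^[r] w = w) : Nat.card {w : W // g w = w} ^ r ≤ Nat.card W :=
  card_fix_semi' σ hσ hr g hg hgr

/-- P3: the number of scalars `k` with `(k g) ^ r = 1` -/
theorem card_norm_semi {K W : Type u} [Field K] [Finite K] [AddCommGroup W] [Finite W] [Nontrivial W] [Module K W]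
    (σ : K ≃+* K) (hσ : σ ≠ 1) {r : ℕ} (hr : r.Prime) (g : W ≃+ W) (hg : ∀ (k : K) (w : W), g (k • w) = σ k • g w)
    (hgr : ∀ w : W, (fun w : W => g w)^[r] w = w) : ∃ q₀ : ℕ, 2 ≤ q₀ ∧ Nat.card K = q₀ ^ r ∧
      (q₀ - 1) * Nat.card {k : Kˣ // ∀ w : W, ((fun w : W => (k : K) • g w)^[r]) w = w} ≤ q₀ ^ r - 1 :=
  card_norm_semi' σ hσ hr g hg hgr

end Cfsg.Agent.H528.HT
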